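import Groth.Agent.UnibConn.Main
import Groth.Agent.PopescuLib.HenzGRing
import Groth.Agent.PopescuLib.RegLoc
import Groth.Agent.CplFib6.PSRegular
import Groth.Agent.FormCat.OnePlus
import Groth.Agent.S2750
import Groth.Agent.Hensel.TensorHenzFinite
import Groth.Agent.IsoNatLib.SmoothCrit
import Groth.Agent.FormalFib6.Transfer

/-!
# Smooth algebras over a strictly henselian domain

A local ring with a regular homomorphism from a geometrically unibranch local domain is a domain.
Hence a strict henselization of a smooth algebra over a strictly henselian domain is a domain.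
-/

set_option autoImplicit false
set_option linter.style.haveILetI false

namespace Groth.Agent.H1SmUnib

universe u

open IsLocalRing TensorProduct

/-- The target of a regular local homomorphism out of a geometrically unibranch domain is a domain. -/
theorem isDomain_of_isRegularHom (A T : Type u) [CommRing A] [IsDomain A] [IsLocalRing A] [IsNoetherianRing A]
    [CommRing T] [IsLocalRing T] [IsNoetherianRing T] [Algebra A T] [IsLocalHom (algebraMap A T)]
    (h : CAlg.IsRegularHom A T) (hA : CAlg2.IsGeomUnibranch A) : IsDomain T := by
  haveI := h.1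
  have h0 : nilradical A = ⊥ := nilradical_eq_zero A
  haveI hp : (nilradical A).IsPrime := h0 ▸ Ideal.bot_prime
  have hgeo : ∀ (L : Type u) [Field L] [Algebra A L], _root_.IsReduced (L ⊗[A] T) := fun L _ _ =>
    FlatLoc6.isReduced_baseChange_field T
      (fun p _ => FlatLoc6.geomReduced_of_geometricallyRegular (h.2 p).2) L
  have hinjA : Function.Injective (algebraMap A (nilradical A).ResidueField) := by
    rw [RingHom.injective_iff_ker_eq_bot, Ideal.ker_algebraMap_residueField, h0]
  have hinj : Function.Injective
      (Algebra.TensorProduct.includeRight : T →ₐ[A] (nilradical A).Fiber T) :=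
    Algebra.TensorProduct.includeRight_injective hinjA
  haveI : Nontrivial ((nilradical A).Fiber T) := hinj.nontrivial
  haveI : IsNoetherianRing ((nilradical A).Fiber T) := (h.2 (nilradical A)).1
  haveI hreg : IsRegularRing ((nilradical A).Fiber T) :=
    FlatLoc6.isRegularRing_of_geometricallyRegular (h.2 (nilradical A)).2
  haveI : IsDomain ((nilradical A).Fiber T) :=
    FormCat.isDomain_of_normal_of_idem _ (FlatLoc6.isNormalRing_of_isRegularRing _)
      (fun e he => UnibConn.idempotent_trivial_fiber hgeo hA he)
  exact Function.Injective.isDomain _ hinj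

/-- A strictly henselian local domain is geometrically unibranch. -/
theorem isGeomUnibranch_strictlyHenselian (R : Type u) [CommRing R] [IsDomain R] [HenselianLocalRing R]
    [IsSepClosed (ResidueField R)] : CAlg2.IsGeomUnibranch R := by
  letI : IsLocalHom (algebraMap R R) := ⟨fun _ hu => hu⟩
  haveI := Hensel.isStrictHenselization_self R inferInstance inferInstance
  exact ((Groth.Agent.S2750.result R R).2 inferInstance).2

/-- A local homomorphism to a strict henselization of a smooth algebra is regular. -/
theorem isRegularHom_strictHenselization (R R' T : Type u) [CommRing R] [IsNoetherianRing R] [IsLocalRing R]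
    [CommRing R'] [Algebra R R'] [Algebra.Smooth R R'] (q : Ideal R') [q.IsPrime]
    [CommRing T] [IsLocalRing T] [Algebra (Localization.AtPrime q) T]
    [IsLocalHom (algebraMap (Localization.AtPrime q) T)]
    [Hensel.IsStrictHenselization (Localization.AtPrime q) T]
    [Algebra R T] [IsScalarTower R (Localization.AtPrime q) T] : CAlg.IsRegularHom R T := by
  haveI : IsNoetherianRing R' := Algebra.FiniteType.isNoetherianRing R R'
  have hT := Hensel.isHenzLike_of_isStrictHenselization (Localization.AtPrime q) T
  haveI : IsNoetherianRing T := hT.isNoetherianRing_iff.mp inferInstance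
  exact FlatLoc6.isRegularHom_comp R (Localization.AtPrime q) T
    (PopescuLib.isRegularHom_localization_target q.primeCompl (CplFib6.isRegularHom_of_smooth R R'))
    (PopescuLib.isRegularHom_of_isHenzLike hT)

theorem isLocalHom_strictHenselization (R R' T : Type u) [CommRing R] [IsLocalRing R]
    [CommRing R'] [Algebra R R'] (q : Ideal R') [q.IsPrime] (hq : (maximalIdeal R).map (algebraMap R R') ≤ q)
    [CommRing T] [IsLocalRing T] [Algebra (Localization.AtPrime q) T]
    [IsLocalHom (algebraMap (Localization.AtPrime q) T)]
    [Algebra R T] [IsScalarTower R (Localization.AtPrime q) T] : IsLocalHom (algebraMap R T) := by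
  haveI : IsLocalHom (algebraMap R (Localization.AtPrime q)) := by
    refine ((local_hom_TFAE _).out 0 2).mpr ?_
    rw [IsScalarTower.algebraMap_eq R R' (Localization.AtPrime q), ← Ideal.map_map,
      ← Localization.AtPrime.map_eq_maximalIdeal]
    exact Ideal.map_mono hq
  rw [IsScalarTower.algebraMap_eq R (Localization.AtPrime q) T]
  exact RingHom.isLocalHom_comp _ _

/-- A strict henselization of a smooth algebra over a strictly henselian domain is a domain. -/
theorem isDomain_strictHenselization (R R' T : Type u) [CommRing R] [IsDomain R] [IsNoetherianRing R]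
    [HenselianLocalRing R] [IsSepClosed (ResidueField R)] [CommRing R'] [Algebra R R'] [Algebra.Smooth R R']
    (q : Ideal R') [q.IsPrime] (hq : (maximalIdeal R).map (algebraMap R R') ≤ q)
    [CommRing T] [IsLocalRing T] [Algebra (Localization.AtPrime q) T]
    [IsLocalHom (algebraMap (Localization.AtPrime q) T)]
    [Hensel.IsStrictHenselization (Localization.AtPrime q) T] : IsDomain T := by
  haveI : IsNoetherianRing R' := Algebra.FiniteType.isNoetherianRing R R'
  letI : Algebra R T :=
    ((algebraMap (Localization.AtPrime q) T).comp (algebraMap R (Localization.AtPrime q))).toAlgebra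
  haveI : IsScalarTower R (Localization.AtPrime q) T := IsScalarTower.of_algebraMap_eq' rfl
  haveI := isLocalHom_strictHenselization R R' T q hq
  haveI : IsNoetherianRing T :=
    (Hensel.isHenzLike_of_isStrictHenselization (Localization.AtPrime q) T).isNoetherianRing_iff.mp inferInstance
  exact isDomain_of_isRegularHom R T (isRegularHom_strictHenselization R R' T q)
    (isGeomUnibranch_strictlyHenselian R)

/-- A prime element of a strictly henselian ring stays prime along a regular local homomorphism. -/
theorem prime_algebraMap_of_isRegularHom (R T : Type u) [CommRing R] [IsNoetherianRing R] [HenselianLocalRing R]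
    [IsSepClosed (ResidueField R)] [CommRing T] [IsLocalRing T] [IsNoetherianRing T] [Algebra R T]
    [IsLocalHom (algebraMap R T)] (h : CAlg.IsRegularHom R T) (x : R) (hx : Prime x) :
    Prime (algebraMap R T x) := by
  haveI := h.1
  haveI : Module.FaithfullyFlat R T := Module.FaithfullyFlat.of_flat_of_isLocalHom
  let P := Ideal.span {x}
  haveI hP : P.IsPrime := (Ideal.span_singleton_prime hx.ne_zero).mpr hx
  let Q := P.map (algebraMap R T)
  have hQtop : Q ≠ ⊤ := fun hQ => hP.ne_top (by
    rw [← Ideal.comap_map_eq_self_of_faithfullyFlat (B := T) P]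
    show Q.comap (algebraMap R T) = ⊤
    rw [hQ, Ideal.comap_top])
  haveI : Nontrivial (T ⧸ Q) := Ideal.Quotient.nontrivial_iff.mpr hQtop
  haveI : IsLocalRing (T ⧸ Q) := IsLocalRing.of_surjective' _ Ideal.Quotient.mk_surjective
  haveI := IsoNatLib.henselianLocalRing_quotient P hP.ne_top
  haveI : IsLocalHom (Ideal.Quotient.mk P) := .of_surjective _ Ideal.Quotient.mk_surjective
  haveI : IsLocalHom (Ideal.Quotient.mk Q) := .of_surjective _ Ideal.Quotient.mk_surjective
  haveI : IsSepClosed (ResidueField (R ⧸ P)) := Hensel.isSepClosed_of_ringEquiv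
    (RingEquiv.ofBijective (ResidueField.map (Ideal.Quotient.mk P)) ⟨RingHom.injective _, fun z => by
      obtain ⟨a, rfl⟩ := residue_surjective z
      obtain ⟨b, rfl⟩ := Ideal.Quotient.mk_surjective a
      exact ⟨residue R b, rfl⟩⟩)
  haveI : IsLocalHom (algebraMap (R ⧸ P) (T ⧸ Q)) := ⟨fun r hr => by
    obtain ⟨a, rfl⟩ := Ideal.Quotient.mk_surjective r
    exact (isUnit_of_map_unit (algebraMap R T) a (isUnit_of_map_unit (Ideal.Quotient.mk Q) _ hr)).map _⟩
  let e' : (R ⧸ P) ⊗[R] T ≃ₐ[R ⧸ P] T ⧸ Q :=
    (Algebra.TensorProduct.quotIdealMapEquivQuotTensor (B := T) (I := P)).symm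
  haveI : IsDomain (T ⧸ Q) := isDomain_of_isRegularHom (R ⧸ P) (T ⧸ Q)
    (FormalFib6.isRegularHom_of_algEquiv e'
      (FlatLoc6.isRegularHom_baseChange R T (R ⧸ P)
        (Or.inr (inferInstance : Algebra.FiniteType R (R ⧸ P))) h))
    (isGeomUnibranch_strictlyHenselian (R ⧸ P))
  have hne : algebraMap R T x ≠ 0 := fun h0 =>
    hx.ne_zero (FaithfulSMul.algebraMap_injective R T (h0.trans (map_zero _).symm))
  rw [← Ideal.span_singleton_prime hne, ← Set.image_singleton, ← Ideal.map_span]
  exact (Ideal.Quotient.isDomain_iff_prime Q).mp inferInstance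

end Groth.Agent.H1SmUnib
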